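import Cfsg.Agent.Lib.SchurMult.TwoCollect

/-! Collector certificate for a Sylow `2`-subgroup of McL. -/

set_option autoImplicit false
set_option maxRecDepth 100000

namespace CfsgLib.McLMult

open CfsgLib.SchurMult

/-- Part of a collection table. -/
def tblMcL_0 : Trie := (.node (.node (.node (.node (.node (.node (.node (.leaf 1) (.leaf 17179869303)) (.node (.leaf 8589934703) (.leaf 26001231769))) (.node (.node (.leaf 4294967305) (.leaf 21495114215)) (.node (.leaf 12905164287) (.leaf 30312675217)))) (.node (.node (.node (.leaf 2147483753) (.leaf 19545778695)) (.node (.leaf 10955863583) (.leaf 28165222385))) (.node (.node (.leaf 6442558049) (.leaf 23826801047)) (.node (.leaf 15236970895) (.leaf 32443692537))))) (.node (.node (.node (.node (.leaf 1073741845) (.leaf 18299186683)) (.node (.leaf 9709243875) (.leaf 27091733389))) (.node (.node (.leaf 5368725533) (.leaf 22607444459)) (.node (.leaf 14017519091) (.leaf 31369638789)))) (.node (.node (.node (.leaf 3221241981) (.leaf 20664531467)) (.node (.leaf 12074501651) (.leaf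 29222185957))) (.node (.node (.leaf 7516299893) (.leaf 24939809819)) (.node (.leaf 16349852675) (.leaf 33534194157)))))) (.node (.node (.node (.node (.node (.leaf 536870949) (.leaf 17793421651)) (.node (.leaf 9203548491) (.leaf 26537847741))) (.node (.node (.leaf 4831871053) (.leaf 22172569251)) (.node (.leaf 13582615227) (.leaf 30849862613)))) (.node (.node (.node (.leaf 2684388013) (.leaf 19959027651)) (.node (.leaf 11369169883) (.leaf 28702282037))) (.node (.node (.leaf 6979330757) (.leaf 24304035891)) (.node (.leaf 15714132011) (.leaf 32980259165))))) (.node (.node (.node (.node (.leaf 1611822129) (.leaf 18894710111)) (.node (.leaf 10304836935) (.leaf 27629280169))) (.node (.node (.leaf 5906805849) (.leaf 23273326383)) (.node (.leaf 14683351863) (.leaf 31907773377)))) (.node (.node (.node (.leaf 3759322809) (.leaf 21055594063)) (.node (.leaf 12465711703) (.leaf 29760184609))) (.node (.node (.leaf 8054265553) (.leaf 25401121855)) (.node (.leaf 16811226151) (.leaf 34071699785))))))) (.node (.node (.node (.node (.node (.node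 (.leaf 268435510) (.leaf 17564422336)) (.node (.leaf 8974402776) (.leaf 26269644718))) (.node (.node (.leaf 4563451998) (.leaf 21943514800)) (.node (.leaf 13353615016) (.leaf 30581189574)))) (.node (.node (.node (.leaf 2415968958) (.leaf 19727871952)) (.node (.leaf 11137875912) (.leaf 28433608998))) (.node (.node (.leaf 6710895318) (.leaf 24072939936)) (.node (.leaf 15482955192) (.leaf 32712117582))))) (.node (.node (.node (.node (.leaf 1343993050) (.leaf 18714355252)) (.node (.leaf 10124455468) (.leaf 27360557890))) (.node (.node (.leaf 5638902962) (.leaf 22925198788)) (.node (.leaf 14335316444) (.leaf 31639488298)))) (.node (.node (.node (.leaf 3491419602) (.leaf 20841684772)) (.node (.leaf 12251697980) (.leaf 29492108874))) (.node (.node (.leaf 7786436026) (.leaf 25086549204)) (.node (.leaf 16496676044) (.leaf 33803026978)))))) (.node (.node (.node (.node (.node (.leaf 807124362) (.leaf 18008420476)) (.node (.leaf 9418477668) (.leaf 26807678482))) (.node (.node (.leaf 5102083458) (.leaf 22285801580)) (.node (.leaf 13695859828)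 (.leaf 31118643738)))) (.node (.node (.node (.leaf 2954599906) (.leaf 20340792204)) (.node (.leaf 11750746004) (.leaf 28971190906))) (.node (.node (.leaf 7249469418) (.leaf 24651141532)) (.node (.leaf 16061245828) (.leaf 33250118770))))) (.node (.node (.node (.node (.leaf 1881121766) (.leaf 19275022728)) (.node (.leaf 10685021584) (.leaf 27897958526))) (.node (.node (.leaf 6175990254) (.leaf 23585975832)) (.node (.leaf 14996002304) (.leaf 32175871606)))) (.node (.node (.node (.leaf 4028506638) (.leaf 21238181496)) (.node (.leaf 12648238688) (.leaf 30028418454))) (.node (.node (.leaf 8323465734) (.leaf 25515107304)) (.node (.leaf 16925181936) (.leaf 34340415902))))))))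

/-- Part of a collection table. -/
def tblMcL_1 : Trie := (.node (.node (.node (.node (.node (.node (.node (.leaf 2) (.leaf 134217818)) (.node (.leaf 67108922) (.leaf 201389154))) (.node (.node (.leaf 33554546) (.leaf 167894186)) (.node (.leaf 100785994) (.leaf 234944402)))) (.node (.node (.node (.leaf 16777322) (.leaf 151107762)) (.node (.leaf 83999570) (.leaf 218167178))) (.node (.node (.leaf 50338202) (.leaf 184581570)) (.node (.leaf 117472674) (.leaf 251719162))))) (.node (.node (.node (.node (.leaf 8388638) (.leaf 142632006)) (.node (.leaf 75523110) (.leaf 209777790))) (.node (.node (.leaf 41944174) (.leaf 176274614)) (.node (.leaf 109166422) (.leaf 243331982)))) (.node (.node (.node (.leaf 25190518) (.leaf 159497390)) (.node (.leaf 92389198) (.leaf 226531222))) (.node (.node (.leaf 58752390) (.leaf 192970206)) (.node (.leaf 125861310) (.leaf 260082150)))))) (.node (.node (.node (.node (.node (.leaf 4194328) (.leaf 138437696)) (.node (.leaf 71328800) (.leaf 205583480))) (.node (.node (.leaf 37749864) (.leaf 172080304))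 (.node (.leaf 104972112) (.leaf 239137672)))) (.node (.node (.node (.leaf 20996208) (.leaf 155303080)) (.node (.leaf 88194888) (.leaf 222336912))) (.node (.node (.leaf 54558080) (.leaf 188775896)) (.node (.leaf 121667000) (.leaf 255887840))))) (.node (.node (.node (.node (.leaf 13477252) (.leaf 147695068)) (.node (.leaf 80586172) (.leaf 214782436))) (.node (.node (.leaf 47031796) (.leaf 181172524)) (.node (.leaf 114064076) (.leaf 248336916)))) (.node (.node (.node (.leaf 30254572) (.leaf 164371764)) (.node (.leaf 97263316) (.leaf 231559692))) (.node (.node (.leaf 63814684) (.leaf 198039620)) (.node (.leaf 130930724) (.leaf 265111676))))))) (.node (.node (.node (.node (.node (.node (.leaf 3) (.leaf 134217819)) (.node (.leaf 67108923) (.leaf 201389155))) (.node (.node (.leaf 33554547) (.leaf 167894187)) (.node (.leaf 100785995) (.leaf 234944403)))) (.node (.node (.node (.leaf 16777323) (.leaf 151107763)) (.node (.leaf 83999571) (.leaf 218167179))) (.node (.node (.leaf 50338203) (.leaf 184581571)) (.node (.leaf 117472675) (.leaf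 251719163))))) (.node (.node (.node (.node (.leaf 8388639) (.leaf 142632007)) (.node (.leaf 75523111) (.leaf 209777791))) (.node (.node (.leaf 41944175) (.leaf 176274615)) (.node (.leaf 109166423) (.leaf 243331983)))) (.node (.node (.node (.leaf 25190519) (.leaf 159497391)) (.node (.leaf 92389199) (.leaf 226531223))) (.node (.node (.leaf 58752391) (.leaf 192970207)) (.node (.leaf 125861311) (.leaf 260082151)))))) (.node (.node (.node (.node (.node (.leaf 4194329) (.leaf 138437697)) (.node (.leaf 71328801) (.leaf 205583481))) (.node (.node (.leaf 37749865) (.leaf 172080305)) (.node (.leaf 104972113) (.leaf 239137673)))) (.node (.node (.node (.leaf 20996209) (.leaf 155303081)) (.node (.leaf 88194889) (.leaf 222336913))) (.node (.node (.leaf 54558081) (.leaf 188775897)) (.node (.leaf 121667001) (.leaf 255887841))))) (.node (.node (.node (.node (.leaf 13477253) (.leaf 147695069)) (.node (.leaf 80586173) (.leaf 214782437))) (.node (.node (.leaf 47031797) (.leaf 181172525)) (.node (.leaf 114064077) (.leaf 248336917)))) (.node (.node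 (.node (.leaf 30254573) (.leaf 164371765)) (.node (.leaf 97263317) (.leaf 231559693))) (.node (.node (.leaf 63814685) (.leaf 198039621)) (.node (.leaf 130930725) (.leaf 265111677))))))))

/-- Part of a collection table. -/
def tblMcL_2 : Trie := (.node (.node (.node (.node (.node (.node (.node (.leaf 4) (.leaf 2097212)) (.node (.leaf 1048668) (.leaf 3239524))) (.node (.node (.leaf 524396) (.leaf 2734932)) (.node (.leaf 1685684) (.leaf 3763596)))) (.node (.node (.node (.leaf 262260) (.leaf 2481996)) (.node (.leaf 1432748) (.leaf 3501460))) (.node (.node (.leaf 901532) (.leaf 2991524)) (.node (.leaf 1942980) (.leaf 3977212))))) (.node (.node (.node (.node (.leaf 131096) (.leaf 2253856)) (.node (.leaf 1205312) (.leaf 3370616))) (.node (.node (.leaf 680048) (.leaf 2867016)) (.node (.leaf 1817768) (.leaf 3870096)))) (.node (.node (.node (.leaf 394344) (.leaf 2604880)) (.node (.leaf 1555632) (.leaf 3631496))) (.node (.node (.leaf 1025408) (.leaf 3122616)) (.node (.leaf 2074072) (.leaf 4115424)))))) (.node (.node (.node (.node (.node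 (.leaf 6) (.leaf 2097214)) (.node (.leaf 1048670) (.leaf 3239526))) (.node (.node (.leaf 524398) (.leaf 2734934)) (.node (.leaf 1685686) (.leaf 3763598)))) (.node (.node (.node (.leaf 262262) (.leaf 2481998)) (.node (.leaf 1432750) (.leaf 3501462))) (.node (.node (.leaf 901534) (.leaf 2991526)) (.node (.leaf 1942982) (.leaf 3977214))))) (.node (.node (.node (.node (.leaf 131098) (.leaf 2253858)) (.node (.leaf 1205314) (.leaf 3370618))) (.node (.node (.leaf 680050) (.leaf 2867018)) (.node (.leaf 1817770) (.leaf 3870098)))) (.node (.node (.node (.leaf 394346) (.leaf 2604882)) (.node (.leaf 1555634) (.leaf 3631498))) (.node (.node (.leaf 1025410) (.leaf 3122618)) (.node (.leaf 2074074) (.leaf 4115426))))))) (.node (.node (.node (.node (.node (.node (.leaf 5) (.leaf 2097213)) (.node (.leaf 1048669) (.leaf 3239525))) (.node (.node (.leaf 524397) (.leaf 2734933)) (.node (.leaf 1685685) (.leaf 3763597)))) (.node (.node (.node (.leaf 262261) (.leaf 2481997)) (.node (.leaf 1432749) (.leaf 3501461))) (.node (.node (.leaf 901533) (.leaf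 2991525)) (.node (.leaf 1942981) (.leaf 3977213))))) (.node (.node (.node (.node (.leaf 131097) (.leaf 2253857)) (.node (.leaf 1205313) (.leaf 3370617))) (.node (.node (.leaf 680049) (.leaf 2867017)) (.node (.leaf 1817769) (.leaf 3870097)))) (.node (.node (.node (.leaf 394345) (.leaf 2604881)) (.node (.leaf 1555633) (.leaf 3631497))) (.node (.node (.leaf 1025409) (.leaf 3122617)) (.node (.leaf 2074073) (.leaf 4115425)))))) (.node (.node (.node (.node (.node (.leaf 7) (.leaf 2097215)) (.node (.leaf 1048671) (.leaf 3239527))) (.node (.node (.leaf 524399) (.leaf 2734935)) (.node (.leaf 1685687) (.leaf 3763599)))) (.node (.node (.node (.leaf 262263) (.leaf 2481999)) (.node (.leaf 1432751) (.leaf 3501463))) (.node (.node (.leaf 901535) (.leaf 2991527)) (.node (.leaf 1942983) (.leaf 3977215))))) (.node (.node (.node (.node (.leaf 131099) (.leaf 2253859)) (.node (.leaf 1205315) (.leaf 3370619))) (.node (.node (.leaf 680051) (.leaf 2867019)) (.node (.leaf 1817771) (.leaf 3870099)))) (.node (.node (.node (.leaf 394347) (.leaf 2604883))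 (.node (.leaf 1555635) (.leaf 3631499))) (.node (.node (.leaf 1025411) (.leaf 3122619)) (.node (.leaf 2074075) (.leaf 4115427))))))))

/-- Part of a collection table. -/
def tblMcL_3 : Trie := (.node (.node (.node (.node (.node (.node (.node (.leaf 8) (.leaf 65576)) (.node (.leaf 32840) (.leaf 98920))) (.node (.node (.leaf 16408) (.leaf 81976)) (.node (.leaf 49240) (.leaf 115320)))) (.node (.node (.node (.leaf 8192) (.leaf 73760)) (.node (.leaf 41024) (.leaf 107104))) (.node (.node (.leaf 24592) (.leaf 90160)) (.node (.leaf 57424) (.leaf 123504))))) (.node (.node (.node (.node (.leaf 12) (.leaf 65580)) (.node (.leaf 32844) (.leaf 98924))) (.node (.node (.leaf 16412) (.leaf 81980)) (.node (.leaf 49244) (.leaf 115324)))) (.node (.node (.node (.leaf 8196) (.leaf 73764)) (.node (.leaf 41028) (.leaf 107108))) (.node (.node (.leaf 24596) (.leaf 90164)) (.node (.leaf 57428) (.leaf 123508)))))) (.node (.node (.node (.node (.node (.leaf 10) (.leaf 65578)) (.node (.leaf 32842) (.leaf 98922))) (.node (.node (.leaf 16410) (.leaf 81978))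 (.node (.leaf 49242) (.leaf 115322)))) (.node (.node (.node (.leaf 8194) (.leaf 73762)) (.node (.leaf 41026) (.leaf 107106))) (.node (.node (.leaf 24594) (.leaf 90162)) (.node (.leaf 57426) (.leaf 123506))))) (.node (.node (.node (.node (.leaf 14) (.leaf 65582)) (.node (.leaf 32846) (.leaf 98926))) (.node (.node (.leaf 16414) (.leaf 81982)) (.node (.leaf 49246) (.leaf 115326)))) (.node (.node (.node (.leaf 8198) (.leaf 73766)) (.node (.leaf 41030) (.leaf 107110))) (.node (.node (.leaf 24598) (.leaf 90166)) (.node (.leaf 57430) (.leaf 123510))))))) (.node (.node (.node (.node (.node (.node (.leaf 9) (.leaf 65577)) (.node (.leaf 32841) (.leaf 98921))) (.node (.node (.leaf 16409) (.leaf 81977)) (.node (.leaf 49241) (.leaf 115321)))) (.node (.node (.node (.leaf 8193) (.leaf 73761)) (.node (.leaf 41025) (.leaf 107105))) (.node (.node (.leaf 24593) (.leaf 90161)) (.node (.leaf 57425) (.leaf 123505))))) (.node (.node (.node (.node (.leaf 13) (.leaf 65581)) (.node (.leaf 32845) (.leaf 98925))) (.node (.node (.leaf 16413) (.leaf 81981))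 (.node (.leaf 49245) (.leaf 115325)))) (.node (.node (.node (.leaf 8197) (.leaf 73765)) (.node (.leaf 41029) (.leaf 107109))) (.node (.node (.leaf 24597) (.leaf 90165)) (.node (.leaf 57429) (.leaf 123509)))))) (.node (.node (.node (.node (.node (.leaf 11) (.leaf 65579)) (.node (.leaf 32843) (.leaf 98923))) (.node (.node (.leaf 16411) (.leaf 81979)) (.node (.leaf 49243) (.leaf 115323)))) (.node (.node (.node (.leaf 8195) (.leaf 73763)) (.node (.leaf 41027) (.leaf 107107))) (.node (.node (.leaf 24595) (.leaf 90163)) (.node (.leaf 57427) (.leaf 123507))))) (.node (.node (.node (.node (.leaf 15) (.leaf 65583)) (.node (.leaf 32847) (.leaf 98927))) (.node (.node (.leaf 16415) (.leaf 81983)) (.node (.leaf 49247) (.leaf 115327)))) (.node (.node (.node (.leaf 8199) (.leaf 73767)) (.node (.leaf 41031) (.leaf 107111))) (.node (.node (.leaf 24599) (.leaf 90167)) (.node (.leaf 57431) (.leaf 123511))))))))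

/-- Part of a collection table. -/
def tblMcL_4 : Trie := (.node (.node (.node (.node (.node (.node (.node (.leaf 16) (.leaf 4144)) (.node (.leaf 2128) (.leaf 6768))) (.node (.node (.leaf 1024) (.leaf 5152)) (.node (.leaf 3136) (.leaf 7776)))) (.node (.node (.node (.leaf 24) (.leaf 4152)) (.node (.leaf 2136) (.leaf 6776))) (.node (.node (.leaf 1032) (.leaf 5160)) (.node (.leaf 3144) (.leaf 7784))))) (.node (.node (.node (.node (.leaf 20) (.leaf 4148)) (.node (.leaf 2132) (.leaf 6772))) (.node (.node (.leaf 1028) (.leaf 5156)) (.node (.leaf 3140) (.leaf 7780)))) (.node (.node (.node (.leaf 28) (.leaf 4156)) (.node (.leaf 2140) (.leaf 6780))) (.node (.node (.leaf 1036) (.leaf 5164)) (.node (.leaf 3148) (.leaf 7788)))))) (.node (.node (.node (.node (.node (.leaf 18) (.leaf 4146)) (.node (.leaf 2130) (.leaf 6770))) (.node (.node (.leaf 1026) (.leaf 5154)) (.node (.leaf 3138) (.leaf 7778)))) (.node (.node (.node (.leaf 26) (.leaf 4154)) (.node (.leaf 2138) (.leaf 6778))) (.node (.node (.leaf 1034) (.leaf 5162)) (.node (.leaf 3146)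 (.leaf 7786))))) (.node (.node (.node (.node (.leaf 22) (.leaf 4150)) (.node (.leaf 2134) (.leaf 6774))) (.node (.node (.leaf 1030) (.leaf 5158)) (.node (.leaf 3142) (.leaf 7782)))) (.node (.node (.node (.leaf 30) (.leaf 4158)) (.node (.leaf 2142) (.leaf 6782))) (.node (.node (.leaf 1038) (.leaf 5166)) (.node (.leaf 3150) (.leaf 7790))))))) (.node (.node (.node (.node (.node (.node (.leaf 17) (.leaf 4145)) (.node (.leaf 2129) (.leaf 6769))) (.node (.node (.leaf 1025) (.leaf 5153)) (.node (.leaf 3137) (.leaf 7777)))) (.node (.node (.node (.leaf 25) (.leaf 4153)) (.node (.leaf 2137) (.leaf 6777))) (.node (.node (.leaf 1033) (.leaf 5161)) (.node (.leaf 3145) (.leaf 7785))))) (.node (.node (.node (.node (.leaf 21) (.leaf 4149)) (.node (.leaf 2133) (.leaf 6773))) (.node (.node (.leaf 1029) (.leaf 5157)) (.node (.leaf 3141) (.leaf 7781)))) (.node (.node (.node (.leaf 29) (.leaf 4157)) (.node (.leaf 2141) (.leaf 6781))) (.node (.node (.leaf 1037) (.leaf 5165)) (.node (.leaf 3149) (.leaf 7789)))))) (.node (.node (.node (.node (.node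 (.leaf 19) (.leaf 4147)) (.node (.leaf 2131) (.leaf 6771))) (.node (.node (.leaf 1027) (.leaf 5155)) (.node (.leaf 3139) (.leaf 7779)))) (.node (.node (.node (.leaf 27) (.leaf 4155)) (.node (.leaf 2139) (.leaf 6779))) (.node (.node (.leaf 1035) (.leaf 5163)) (.node (.leaf 3147) (.leaf 7787))))) (.node (.node (.node (.node (.leaf 23) (.leaf 4151)) (.node (.leaf 2135) (.leaf 6775))) (.node (.node (.leaf 1031) (.leaf 5159)) (.node (.leaf 3143) (.leaf 7783)))) (.node (.node (.node (.leaf 31) (.leaf 4159)) (.node (.leaf 2143) (.leaf 6783))) (.node (.node (.leaf 1039) (.leaf 5167)) (.node (.leaf 3151) (.leaf 7791))))))))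

/-- Part of a collection table. -/
def tblMcL_5 : Trie := (.node (.node (.node (.node (.node (.node (.node (.leaf 32) (.leaf 608)) (.node (.leaf 256) (.leaf 832))) (.node (.node (.leaf 48) (.leaf 624)) (.node (.leaf 272) (.leaf 848)))) (.node (.node (.node (.leaf 40) (.leaf 616)) (.node (.leaf 264) (.leaf 840))) (.node (.node (.leaf 56) (.leaf 632)) (.node (.leaf 280) (.leaf 856))))) (.node (.node (.node (.node (.leaf 36) (.leaf 612)) (.node (.leaf 260) (.leaf 836))) (.node (.node (.leaf 52) (.leaf 628)) (.node (.leaf 276) (.leaf 852)))) (.node (.node (.node (.leaf 44) (.leaf 620)) (.node (.leaf 268) (.leaf 844))) (.node (.node (.leaf 60) (.leaf 636)) (.node (.leaf 284) (.leaf 860)))))) (.node (.node (.node (.node (.node (.leaf 34) (.leaf 610)) (.node (.leaf 258) (.leaf 834))) (.node (.node (.leaf 50) (.leaf 626)) (.node (.leaf 274) (.leaf 850)))) (.node (.node (.node (.leaf 42) (.leaf 618)) (.node (.leaf 266) (.leaf 842))) (.node (.node (.leaf 58) (.leaf 634)) (.node (.leaf 282) (.leaf 858))))) (.node (.node (.node (.node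 (.leaf 38) (.leaf 614)) (.node (.leaf 262) (.leaf 838))) (.node (.node (.leaf 54) (.leaf 630)) (.node (.leaf 278) (.leaf 854)))) (.node (.node (.node (.leaf 46) (.leaf 622)) (.node (.leaf 270) (.leaf 846))) (.node (.node (.leaf 62) (.leaf 638)) (.node (.leaf 286) (.leaf 862))))))) (.node (.node (.node (.node (.node (.node (.leaf 33) (.leaf 609)) (.node (.leaf 257) (.leaf 833))) (.node (.node (.leaf 49) (.leaf 625)) (.node (.leaf 273) (.leaf 849)))) (.node (.node (.node (.leaf 41) (.leaf 617)) (.node (.leaf 265) (.leaf 841))) (.node (.node (.leaf 57) (.leaf 633)) (.node (.leaf 281) (.leaf 857))))) (.node (.node (.node (.node (.leaf 37) (.leaf 613)) (.node (.leaf 261) (.leaf 837))) (.node (.node (.leaf 53) (.leaf 629)) (.node (.leaf 277) (.leaf 853)))) (.node (.node (.node (.leaf 45) (.leaf 621)) (.node (.leaf 269) (.leaf 845))) (.node (.node (.leaf 61) (.leaf 637)) (.node (.leaf 285) (.leaf 861)))))) (.node (.node (.node (.node (.node (.leaf 35) (.leaf 611)) (.node (.leaf 259) (.leaf 835))) (.node (.node (.leaf 51) (.leaf 627))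 (.node (.leaf 275) (.leaf 851)))) (.node (.node (.node (.leaf 43) (.leaf 619)) (.node (.leaf 267) (.leaf 843))) (.node (.node (.leaf 59) (.leaf 635)) (.node (.leaf 283) (.leaf 859))))) (.node (.node (.node (.node (.leaf 39) (.leaf 615)) (.node (.leaf 263) (.leaf 839))) (.node (.node (.leaf 55) (.leaf 631)) (.node (.leaf 279) (.leaf 855)))) (.node (.node (.node (.leaf 47) (.leaf 623)) (.node (.leaf 271) (.leaf 847))) (.node (.node (.leaf 63) (.leaf 639)) (.node (.leaf 287) (.leaf 863))))))))

/-- Part of a collection table. -/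
def tblMcL_6 : Trie := (.node (.node (.node (.node (.node (.node (.node (.leaf 64) (.leaf 128)) (.node (.leaf 96) (.leaf 160))) (.node (.node (.leaf 80) (.leaf 144)) (.node (.leaf 112) (.leaf 176)))) (.node (.node (.node (.leaf 72) (.leaf 136)) (.node (.leaf 104) (.leaf 168))) (.node (.node (.leaf 88) (.leaf 152)) (.node (.leaf 120) (.leaf 184))))) (.node (.node (.node (.node (.leaf 68) (.leaf 132)) (.node (.leaf 100) (.leaf 164))) (.node (.node (.leaf 84) (.leaf 148)) (.node (.leaf 116) (.leaf 180)))) (.node (.node (.node (.leaf 76) (.leaf 140)) (.node (.leaf 108) (.leaf 172))) (.node (.node (.leaf 92) (.leaf 156)) (.node (.leaf 124) (.leaf 188)))))) (.node (.node (.node (.node (.node (.leaf 66) (.leaf 130)) (.node (.leaf 98) (.leaf 162))) (.node (.node (.leaf 82) (.leaf 146)) (.node (.leaf 114) (.leaf 178)))) (.node (.node (.node (.leaf 74) (.leaf 138)) (.node (.leaf 106) (.leaf 170))) (.node (.node (.leaf 90) (.leaf 154)) (.node (.leaf 122) (.leaf 186))))) (.node (.node (.node (.node (.leaf 70) (.leaf 134)) (.node (.leaf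 102) (.leaf 166))) (.node (.node (.leaf 86) (.leaf 150)) (.node (.leaf 118) (.leaf 182)))) (.node (.node (.node (.leaf 78) (.leaf 142)) (.node (.leaf 110) (.leaf 174))) (.node (.node (.leaf 94) (.leaf 158)) (.node (.leaf 126) (.leaf 190))))))) (.node (.node (.node (.node (.node (.node (.leaf 65) (.leaf 129)) (.node (.leaf 97) (.leaf 161))) (.node (.node (.leaf 81) (.leaf 145)) (.node (.leaf 113) (.leaf 177)))) (.node (.node (.node (.leaf 73) (.leaf 137)) (.node (.leaf 105) (.leaf 169))) (.node (.node (.leaf 89) (.leaf 153)) (.node (.leaf 121) (.leaf 185))))) (.node (.node (.node (.node (.leaf 69) (.leaf 133)) (.node (.leaf 101) (.leaf 165))) (.node (.node (.leaf 85) (.leaf 149)) (.node (.leaf 117) (.leaf 181)))) (.node (.node (.node (.leaf 77) (.leaf 141)) (.node (.leaf 109) (.leaf 173))) (.node (.node (.leaf 93) (.leaf 157)) (.node (.leaf 125) (.leaf 189)))))) (.node (.node (.node (.node (.node (.leaf 67) (.leaf 131)) (.node (.leaf 99) (.leaf 163))) (.node (.node (.leaf 83) (.leaf 147)) (.node (.leaf 115) (.leaf 179)))) (.node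 (.node (.node (.leaf 75) (.leaf 139)) (.node (.leaf 107) (.leaf 171))) (.node (.node (.leaf 91) (.leaf 155)) (.node (.leaf 123) (.leaf 187))))) (.node (.node (.node (.node (.leaf 71) (.leaf 135)) (.node (.leaf 103) (.leaf 167))) (.node (.node (.leaf 87) (.leaf 151)) (.node (.leaf 119) (.leaf 183)))) (.node (.node (.node (.leaf 79) (.leaf 143)) (.node (.leaf 111) (.leaf 175))) (.node (.node (.leaf 95) (.leaf 159)) (.node (.leaf 127) (.leaf 191))))))))

/-- Collector. -/
def colMcL : Collector where
  n := 7
  rels := [([6, 6], []),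
    ([5, 5], []),
    ([6, 5], [5, 6]),
    ([4, 4], []),
    ([5, 4], [4, 6]),
    ([6, 4], [4, 5]),
    ([3, 3], []),
    ([4, 3], [3, 4]),
    ([5, 3], [3, 6]),
    ([6, 3], [3, 5]),
    ([2, 2], [3, 4]),
    ([3, 2], [2, 4, 5, 6]),
    ([4, 2], [2, 3, 5, 6]),
    ([5, 2], [2, 3, 4, 6]),
    ([6, 2], [2, 3, 4, 5]),
    ([1, 1], [3, 4]),
    ([2, 1], [1, 2, 3, 4]),
    ([3, 1], [1, 3, 5, 6]),
    ([4, 1], [1, 4, 5, 6]),
    ([5, 1], [1, 3, 4, 5]),
    ([6, 1], [1, 3, 4, 6]),
    ([0, 0], [1, 2, 4, 5]),
    ([1, 0], [0, 2, 5]),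
    ([2, 0], [0, 2, 4]),
    ([3, 0], [0, 3, 5, 6]),
    ([4, 0], [0, 3]),
    ([5, 0], [0, 1, 2, 3, 5, 6]),
    ([6, 0], [0, 1, 2, 4, 5, 6])]
  table := [tblMcL_0, tblMcL_1, tblMcL_2, tblMcL_3, tblMcL_4, tblMcL_5, tblMcL_6]
  eqs := [.assoc [0] 21,
    .assoc [1] 15,
    .assoc [1] 21,
    .assoc [1] 22,
    .assoc [2] 10,
    .assoc [2] 15,
    .assoc [2] 21,
    .assoc [2] 22,
    .assoc [2] 23,
    .assoc [3] 10,
    .assoc [3] 15,
    .assoc [3] 16,
    .assoc [3] 17,
    .assoc [3] 21,
    .assoc [3] 23,
    .assoc [4] 22,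
    .assoc [4] 23,
    .assoc [5] 13,
    .conj 0 [(0, 0), (3, 20), (34, 90), (41, 86), (50, 58), (57, 54)] [(34, 3), (41, 3), (50, 3), (57, 3)],
    .conj 0 [(0, 0), (3, 20), (4, 19), (33, 94), (42, 82), (45, 37), (46, 81), (49, 62), (66, 74)] [(33, 3), (46, 3), (66, 3), (42, 4), (45, 4), (3, 33)],
    .conj 1 [(0, 0), (81, 112)] [(81, 81)],
    .conj 2 [(0, 0), (2, 62), (4, 114), (6, 52)] [(6, 2), (2, 4)],
    .conj 2 [(0, 0), (2, 62), (4, 114), (24, 120)] [(2, 2), (4, 4)],
    .conj 3 [(0, 0), (2, 44), (4, 62), (6, 106)] [(6, 2), (2, 4)]]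
  gauge := [0, 109051904, 0, 41943040, 8388608, 234881024, 0]
  comb := [8273104, 8294695, 122928, 349141, 301711, 272746, 347168, 8135, 428733, 407370, 5956512, 7865416, 7867295, 10043037, 10169485, 12280911, 10020469, 8158045, 8152397, 8444973, 8595912, 7737255, 10838481, 0, 8210591, 0, 0, 0]

/-- Normal forms by increasing key. -/
def orderMcL : List ℕ := [57, 3, 4, 49, 108, 62, 107, 54, 1, 105, 35, 43, 2, 56, 48, 106, 81, 11, 38, 89, 46, 28, 99, 116, 27, 33, 12, 115, 100, 86, 41, 94, 59, 51, 25, 113, 10, 80, 88, 98, 19, 73, 78, 123, 70, 20, 65, 124, 58, 50, 45, 24, 111, 37, 112, 7, 60, 30, 52, 118, 21, 125, 71, 79, 9, 97, 75, 67, 32, 26, 114, 40, 84, 22, 92, 126, 87, 95, 101, 13, 6, 36, 110, 44, 29, 117, 47, 39, 83, 91, 17, 121, 72, 18, 122, 64, 0, 104, 69, 34, 103, 77, 42, 15, 14, 76, 102, 68, 63, 55, 109, 5, 8, 96, 127, 74, 93, 23, 66, 85, 82, 90, 119, 16, 53, 31, 120, 61]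

/-- Points for the keys. -/
def ptsMcL : List ℕ := [59, 202]

end CfsgLib.McLMult
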